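import Groth.Agent.S7827
import Groth.Agent.H23.CubeAb
import Groth.Agent.Lib.AbDualBase
import Groth.Agent.Lib.AVCube
import Mathlib.Tactic.LinearCombination
import Mathlib.Tactic.Module

/-!
The cube relation and the pullback along multiplication by `n` on an abelian scheme over any base.
-/

set_option autoImplicit false
set_option linter.style.haveILetI false
set_option linter.unusedSectionVars false
set_option backward.isDefEq.respectTransparency false
set_option backward.isDefEq.respectTransparency.types false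
set_option maxHeartbeats 1000000

universe u

open CategoryTheory CategoryTheory.Limits MonoidalCategory CartesianMonoidalCategory MonObj AlgebraicGeometry TopologicalSpace

noncomputable section

namespace Groth.Agent.AbSchCube

open Groth.Agent Groth.Agent.H23 Groth.Agent.H23.TrivBasic
open scoped Groth.Agent.H23.PicMul

variable {S : Scheme.{u}} {A : Over S} {L : A.left.Modules} (hL : PicF.IsInvertible L)

/-- The class of the pullback of `L` along `f`, as a unit. -/
def pc {T : Over S} (f : T ⟶ A) : (PicF.Cl T.left)ˣ :=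
  (PicMul.isUnit_of_isInvertibleCl (PicClLib.isInvertibleCl_pullCl f.left ⟨L, rfl, hL⟩)).unit

theorem val_pc {T : Over S} (f : T ⟶ A) :
    (pc hL f : PicF.Cl T.left) = PicF.cl ((Scheme.Modules.pullback f.left).obj L) := rfl

theorem val_pc' {T : Over S} (f : T ⟶ A) : (pc hL f : PicF.Cl T.left) = PicF.pullCl f.left (PicF.cl L) := rfl

theorem val_pc_id : (pc hL (𝟙 A) : PicF.Cl A.left) = PicF.cl L := by
  rw [val_pc', Over.id_left, PicClLib.pullCl_id]

theorem pull_pc {T T' : Over S} (φ : T' ⟶ T) (f : T ⟶ A) :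
    Units.map (PicMul.pullHom φ.left : PicF.Cl T.left →* PicF.Cl T'.left) (pc hL f) = pc hL (φ ≫ f) := by
  ext
  show PicF.pullCl φ.left (pc hL f : PicF.Cl T.left) = _
  rw [val_pc', val_pc', PicClLib.pullCl_comp, Over.comp_left]

variable [GrpObj A]

/-- The alternating combination of three maps. -/
def comb {T : Over S} (f g h : T ⟶ A) : (PicF.Cl T.left)ˣ :=
  pc hL (f * g * h) * pc hL f * pc hL g * pc hL h /
    (pc hL (f * g) * pc hL (f * h) * pc hL (g * h) * pc hL 1)

theorem pull_comb {T T' : Over S} (φ : T' ⟶ T) (f g h : T ⟶ A) :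
    Units.map (PicMul.pullHom φ.left : PicF.Cl T.left →* PicF.Cl T'.left) (comb hL f g h) =
      comb hL (φ ≫ f) (φ ≫ g) (φ ≫ h) := by
  simp only [comb, map_mul, map_div, pull_pc, MonObj.comp_mul, MonObj.comp_one]

theorem comb_eq_one_of_one {T : Over S} {f g h : T ⟶ A} (H : f = 1 ∨ g = 1 ∨ h = 1) : comb hL f g h = 1 := by
  rw [comb, div_eq_one]
  rcases H with rfl | rfl | rfl <;> simp only [_root_.one_mul, _root_.mul_one] <;> ac_rfl

theorem one_left {T : Over S} : (1 : T ⟶ A).left = T.hom ≫ η[A].left := by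
  rw [Hom.one_def, Over.comp_left, Over.toUnit_left]

variable [IsProper A.hom] [Flat A.hom] [LocallyOfFinitePresentation A.hom] [GeometricallyIntegral A.hom]

/-- The universal case. -/
theorem comb_universal :
    comb hL (fst (A ⊗ A) A ≫ fst A A) (fst (A ⊗ A) A ≫ snd A A) (snd (A ⊗ A) A) = 1 := by
  let P := (A ⊗ A) ⊗ A
  let c := comb hL (fst (A ⊗ A) A ≫ fst A A) (fst (A ⊗ A) A ≫ snd A A) (snd (A ⊗ A) A)
  have inv {T : Over S} (f : T ⟶ A) : PicF.IsInvertibleCl (pc hL f : PicF.Cl T.left) :=
    PicClLib.isInvertibleCl_pullCl f.left ⟨L, rfl, hL⟩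
  have key : ∀ u v : (PicF.Cl P.left)ˣ, PicF.IsInvertibleCl (u : PicF.Cl P.left) →
      PicF.IsInvertibleCl (v : PicF.Cl P.left) → PicF.IsInvertibleCl ((u / v : (PicF.Cl P.left)ˣ) : PicF.Cl P.left) := by
    rintro u v hu ⟨M, hM, hMi⟩
    obtain ⟨D, hD, e⟩ := PicInv.exists_inverse hMi
    have h : PicF.cl D = ((v⁻¹ : (PicF.Cl P.left)ˣ) : PicF.Cl P.left) := by
      refine left_inv_eq_right_inv (a := PicF.cl M) ?_ ?_
      · rw [mul_comm]
        exact (PicGrp.cl_eq_cl_iff _ _).2 e
      · rw [hM]
        exact Units.mul_inv v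
    rw [div_eq_mul_inv, Units.val_mul]
    exact PicMul.isInvertibleCl_mul hu ⟨D, h, hD⟩
  obtain ⟨M, hM, hMi⟩ : PicF.IsInvertibleCl (c : PicF.Cl P.left) := by
    refine key _ _ ?_ ?_ <;> simp only [Units.val_mul] <;>
      repeat (first | exact inv _ | refine PicMul.isInvertibleCl_mul ?_ (inv _))
  have slice : ∀ {T : Over S} (φ : T ⟶ P),
      (φ ≫ fst (A ⊗ A) A ≫ fst A A = 1 ∨ φ ≫ fst (A ⊗ A) A ≫ snd A A = 1 ∨ φ ≫ snd (A ⊗ A) A = 1) →
        Triv ((Scheme.Modules.pullback φ.left).obj M) := by
    intro T φ H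
    refine (PicGrp.cl_eq_cl_iff _ _).1 ?_
    show PicF.pullCl φ.left (PicF.cl M) = 1
    rw [hM]
    exact congrArg Units.val ((pull_comb hL φ _ _ _).trans (comb_eq_one_of_one hL H))
  let a := A.hom
  let e : S ⟶ A.left := η[A].left
  have he : e ≫ a = 𝟙 S := Over.w η[A]
  let f : P.left ⟶ A.left := pullback.snd (pullback.fst a a ≫ a) a
  have hone : ∀ {T : Scheme.{u}} (m : T ⟶ P.left), (1 : Over.mk (m ≫ P.hom) ⟶ A).left =
      m ≫ pullback.fst (pullback.fst a a ≫ a) a ≫ pullback.fst a a ≫ a ≫ e := fun m => by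
    rw [one_left]
    show (m ≫ pullback.fst _ _ ≫ pullback.fst a a ≫ a) ≫ e = _
    simp only [Category.assoc]
    rfl
  have slice' : ∀ {T : Scheme.{u}} (m : T ⟶ pullback (pullback.fst a a ≫ a) a),
      (m ≫ pullback.fst _ _ ≫ pullback.fst a a = m ≫ pullback.fst _ _ ≫ pullback.fst a a ≫ a ≫ e ∨
        m ≫ pullback.fst _ _ ≫ pullback.snd a a = m ≫ pullback.fst _ _ ≫ pullback.fst a a ≫ a ≫ e ∨
        m ≫ pullback.snd _ _ = m ≫ pullback.fst _ _ ≫ pullback.fst a a ≫ a ≫ e) →
      Triv ((Scheme.Modules.pullback m).obj M) := by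
    intro T m H
    refine slice (T := Over.mk (m ≫ P.hom)) (Over.homMk m rfl) ?_
    rcases H with h | h | h
    · exact Or.inl (Over.OverMorphism.ext (h.trans (hone m).symm))
    · exact Or.inr (Or.inl (Over.OverMorphism.ext (h.trans (hone m).symm)))
    · exact Or.inr (Or.inr (Over.OverMorphism.ext (h.trans (hone m).symm)))
  have hloc : ∀ z : A.left, ∃ W : A.left.Opens, z ∈ W ∧ ∃ s : Γ(M, f ⁻¹ᵁ W), InvX.IsFrame s := by
    intro z
    let z₀ := e (a z)
    have hz₀ : A.left.fromSpecResidueField z₀ ≫ a ≫ e = A.left.fromSpecResidueField z₀ := by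
      haveI : IsClosedImmersion e := SeesawGen.isClosedImmersion_of_section e a he
      haveI : IsIso (e.residueFieldMap (a z)) := by
        rw [ConcreteCategory.isIso_iff_bijective]
        refine ⟨RingHom.injective _, ?_⟩
        have hs : Function.Surjective (e.stalkMap (a z) ≫ S.residue (a z)).hom :=
          (Scheme.residue_surjective S (a z)).comp (SurjectiveOnStalks.stalkMap_surjective e (a z))
        rw [← Scheme.residue_residueFieldMap] at hs
        exact Function.Surjective.of_comp (g := (A.left.residue (e (a z))).hom) hs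
      have h := Scheme.Hom.SpecMap_residueFieldMap_fromSpecResidueField e (a z)
      rw [← cancel_epi (Spec.map (e.residueFieldMap (a z))), ← Category.assoc, h, Category.assoc,
        reassoc_of% he]
    obtain ⟨W, hWc, hzW, hW⟩ := S7827.result a a a e he e he M hMi
      (slice' _ (Or.inl (by
        simp only [pullback.map, pullback.lift_fst, pullback.lift_fst_assoc, Category.assoc, reassoc_of% he])))
      (slice' _ (Or.inr (Or.inl (by
        simp only [pullback.map, pullback.lift_fst, pullback.lift_snd, pullback.lift_fst_assoc, Category.assoc,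
          Category.id_comp]))))
      z₀ (slice' (pullback.fst f (A.left.fromSpecResidueField z₀)) (Or.inr (Or.inr (by
        have hc : pullback.fst (pullback.fst a a ≫ a) a ≫ pullback.fst a a ≫ a ≫ e = f ≫ a ≫ e := by
          rw [← reassoc_of% (pullback.condition (f := pullback.fst a a ≫ a) (g := a))]
        rw [hc]
        show pullback.fst f _ ≫ f = _
        rw [pullback.condition, pullback.condition_assoc, hz₀]))))
    have hzmem : z ∈ W := by
      haveI := CubeAb.geometricallyConnected_of_integral a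
      haveI : ConnectedSpace ↥(a.fiber (a z)) :=
        GeometricallyConnected.geometrically_connectedSpace (f := a) _ _ _ (.of_hasPullback _ _)
      have hpre : _root_.IsPreconnected (a ⁻¹' {a z}) := by
        rw [← Scheme.Hom.range_fiberι]
        exact isPreconnected_range (a.fiberι (a z)).continuous
      have : (z₀ : A.left) ∈ a ⁻¹' {a z} := by
        show a (e (a z)) = a z
        rw [← Scheme.Hom.comp_apply, he]
        rfl
      exact hpre.subset_isClopen ⟨hWc, W.isOpen⟩ ⟨z₀, this, hzW⟩ rfl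
    obtain ⟨s, hs⟩ := SeesawGlobal.exists_frame_of_triv (f ⁻¹ᵁ W).ι hW
    exact ⟨W, hzmem, _, hs.res (Scheme.Opens.opensRange_ι _).ge⟩
  haveI : GeometricallyIntegral (pullback.fst a a ≫ a) := SeesawGen.geometricallyIntegral_prod_base a a
  have h0 : ∀ U : A.left.Opens, Function.Bijective (f.app U) := SeesawGen.bijective_app_gi f
  have htriv : Triv M := SeesawGlobal.triv_of_section (f := f) h0
    (lift (1 : A ⟶ A ⊗ A) (𝟙 A)).left
    (congrArg CommaMorphism.left (lift_snd (1 : A ⟶ A ⊗ A) (𝟙 A)))
    (slice _ (Or.inl (by rw [lift_fst_assoc, MonObj.one_comp]))) hloc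
  exact Units.ext (hM.symm.trans ((PicGrp.cl_eq_cl_iff _ _).2 htriv))

/-- The cube relation for three maps. -/
theorem cube_rel {T : Over S} (f g h : T ⟶ A) :
    pc hL (f * g * h) * pc hL f * pc hL g * pc hL h =
      pc hL (f * g) * pc hL (f * h) * pc hL (g * h) * pc hL 1 := by
  have e := pull_comb hL (lift (lift f g) h) (fst (A ⊗ A) A ≫ fst A A) (fst (A ⊗ A) A ≫ snd A A) (snd (A ⊗ A) A)
  simp only [comb_universal, map_one, lift_fst, lift_fst_assoc, lift_snd] at e
  exact div_eq_one.1 e.symm

/-- Pullback along the powers of a map. -/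
theorem pc_pow {T : Over S} (g : T ⟶ A) : ∀ n : ℕ,
    pc hL (g ^ n) * pc hL 1 ^ (n ^ 2) = pc hL g ^ (n + 1).choose 2 * pc hL g⁻¹ ^ n.choose 2 * pc hL 1
  | 0 => by simp
  | 1 => by simp
  | n + 2 => by
    have h1 := pc_pow g (n + 1)
    have h0 := pc_pow g n
    have h := cube_rel hL (g ^ (n + 1)) g g⁻¹
    rw [mul_inv_cancel_right, mul_inv_cancel, ← pow_succ, show g ^ (n + 1) * g⁻¹ = g ^ n by
      rw [pow_succ, mul_inv_cancel_right]] at h
    have c1 : ∀ j : ℕ, (j + 1).choose 2 = j.choose 2 + j := fun j => by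
      rw [Nat.choose_succ_succ, Nat.choose_one_right, add_comm]
    simp only [c1] at h0 h1 ⊢
    refine Additive.ofMul.injective ?_
    replace h0 := congrArg Additive.ofMul h0
    replace h1 := congrArg Additive.ofMul h1
    replace h := congrArg Additive.ofMul h
    simp only [ofMul_mul, ofMul_pow] at h0 h1 h ⊢
    linear_combination (norm := module) -h + (2 : ℕ) • h1 - h0

theorem natCast_choose (m : ℕ) :
    (((m : ℤ) ^ 2 + m) / 2).toNat = (m + 1).choose 2 ∧ (((m : ℤ) ^ 2 - m) / 2).toNat = m.choose 2 := by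
  have h : ∀ j : ℕ, (2 : ℤ) * (j + 1).choose 2 = (j : ℤ) ^ 2 + j := by
    intro j
    induction j with
    | zero => simp
    | succ j ih =>
      rw [Nat.choose_succ_succ, Nat.choose_one_right, Nat.cast_add, mul_add, ih]
      push_cast
      ring
  refine ⟨by rw [← h m]; simp, ?_⟩
  rcases m with - | j
  · simp
  · rw [show ((j + 1 : ℕ) : ℤ) ^ 2 - (j + 1 : ℕ) = 2 * ((j + 1).choose 2 : ℤ) by rw [h j]; push_cast; ring]
    simp

/-- Pullback along all integral powers of the identity. -/
theorem pc_zpow (n : ℤ) :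
    pc hL (𝟙 A ^ n) * pc hL (1 : A ⟶ A) ^ (n.natAbs ^ 2) =
      pc hL (𝟙 A) ^ ((n ^ 2 + n) / 2).toNat * pc hL (𝟙 A ^ (-1 : ℤ)) ^ ((n ^ 2 - n) / 2).toNat *
        pc hL (1 : A ⟶ A) := by
  obtain ⟨m, rfl | rfl⟩ := Int.eq_nat_or_neg n
  · rw [zpow_natCast, Int.natAbs_natCast, (natCast_choose m).1, (natCast_choose m).2, zpow_neg_one]
    exact pc_pow hL (𝟙 A) m
  · rw [zpow_neg, zpow_natCast, Int.natAbs_neg, Int.natAbs_natCast, neg_sq, ← sub_eq_add_neg, sub_neg_eq_add,
      (natCast_choose m).1, (natCast_choose m).2, zpow_neg_one, ← inv_pow]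
    have h := pc_pow hL (𝟙 A)⁻¹ m
    rw [_root_.inv_inv] at h
    rw [h]
    ac_rfl

theorem val_pc_one :
    (pc hL (1 : A ⟶ A) : PicF.Cl A.left) =
      PicF.pullCl A.hom (PicF.cl ((Scheme.Modules.pullback η[A].left).obj L)) := by
  rw [val_pc', one_left, ← PicClLib.pullCl_comp]
  rfl

omit [IsProper A.hom] [Flat A.hom] [LocallyOfFinitePresentation A.hom] [GeometricallyIntegral A.hom] in
/-- A proper group scheme with geometrically reduced and connected fibres has integral geometric fibres. -/
theorem geometricallyIntegral_hom (X : Over S) [GrpObj X] [IsProper X.hom] [GeometricallyReduced X.hom]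
    [GeometricallyConnected X.hom] : GeometricallyIntegral X.hom := by
  refine MaxAbelian.geometricallyIntegral_of_pullback _ fun K _ x => ?_
  haveI : IsProper ((Over.pullback x).obj X).hom := inferInstanceAs (IsProper (pullback.snd X.hom x))
  haveI : GeometricallyReduced ((Over.pullback x).obj X).hom :=
    inferInstanceAs (GeometricallyReduced (pullback.snd X.hom x))
  haveI : ConnectedSpace ((Over.pullback x).obj X).left :=
    GeometricallyConnected.geometrically_connectedSpace (f := X.hom) _ _ _ (.of_hasPullback _ _)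
  haveI := MaxAbelian.geometricallyIntegral_of_connected ((Over.pullback x).obj X)
  exact GeometricallyIntegral.isIntegral_of_subsingleton ((Over.pullback x).obj X).hom

end Groth.Agent.AbSchCube
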