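import Groth.Agent.AbSchCube.Basic
import Groth.Agent.S1937
import Groth.Agent.S5018
import Groth.Agent.S1488
import Groth.Agent.GrpSchLib.Cartier
import Groth.Agent.H23.PullPush
import Groth.Agent.KFlatLib.Perfect.LocFree

/-!
Differentials of an abelian scheme over an arbitrary base.
-/

set_option autoImplicit false
set_option linter.style.haveILetI false
set_option linter.unusedSectionVars false
set_option backward.isDefEq.respectTransparency false
set_option backward.isDefEq.respectTransparency.types false
set_option maxHeartbeats 1000000

universe u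

open CategoryTheory CategoryTheory.Limits MonoidalCategory CartesianMonoidalCategory MonObj AlgebraicGeometry Opposite TopologicalSpace

noncomputable section

namespace Groth.Agent.AbSchCube

open Groth.Agent Groth.Agent.H23

variable {S : Scheme.{u}} (X : Over S) [GrpObj X] [IsProper X.hom] [Flat X.hom]
  [LocallyOfFinitePresentation X.hom] [GeometricallyReduced X.hom]

theorem smooth_hom : Smooth X.hom := by
  let : GrpObj (Over.mk X.hom) := ‹GrpObj X›
  refine Smooth.of_smooth_fiberToSpecResidueField X.hom fun s => ?_
  let : GrpObj (Over.mk (Limits.pullback.snd X.hom (S.fromSpecResidueField s))) := Over.grpObjMkPullbackSnd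
  haveI : LocallyOfFiniteType (Over.mk (Limits.pullback.snd X.hom (S.fromSpecResidueField s))).hom :=
    inferInstanceAs (LocallyOfFiniteType (Limits.pullback.snd X.hom (S.fromSpecResidueField s)))
  refine GrpSchLib.smooth_of_isReduced_baseChange (Over.mk (Limits.pullback.snd X.hom (S.fromSpecResidueField s))) ?_
  exact GeometricallyReduced.geometrically_isReduced (f := pullback.snd X.hom (S.fromSpecResidueField s)) _ _ _
    (.of_hasPullback _ _)

/-- The invariant differentials. -/
abbrev omegaConormal : S.Modules := Omega.conormal η[X].left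

theorem omega_iso : Nonempty (Omega.sheaf X.hom ≅ (Scheme.Modules.pullback X.hom).obj (omegaConormal X)) :=
  (S1937.result S X).1

theorem unit_pullback_iso (M : S.Modules) :
    Nonempty ((Scheme.Modules.pullback η[X].left).obj ((Scheme.Modules.pullback X.hom).obj M) ≅ M) :=
  ⟨(Scheme.Modules.pullbackComp η[X].left X.hom).app M ≪≫
    (Scheme.Modules.pullbackCongr (show η[X].left ≫ X.hom = 𝟙 S from Over.w η[X])).app M ≪≫
      (Scheme.Modules.pullbackId S).app M⟩

theorem isFinLocFree_omega : FlatMod.IsFinLocFree (Omega.sheaf X.hom) :=
  haveI := smooth_hom X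
  S5018.result X.hom ((S1488.result _).1 inferInstance).2 _ _ (OmegaUniv.isUniversal_dOmega _)

theorem isFinLocFree_conormal : FlatMod.IsFinLocFree (omegaConormal X) := by
  obtain ⟨e⟩ := omega_iso X
  obtain ⟨u⟩ := unit_pullback_iso X (omegaConormal X)
  exact PullPush.isFinLocFree_of_iso ((Scheme.Modules.pullback η[X].left).mapIso e ≪≫ u)
    (KFlatLib.isFinLocFree_pullback _ (isFinLocFree_omega X))

variable [GeometricallyConnected X.hom]

theorem bijective_app (U : S.Opens) : Function.Bijective (X.hom.app U) :=
  haveI := geometricallyIntegral_hom X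
  SeesawGen.bijective_app_gi X.hom U

theorem bijective_unit_pullback {M : S.Modules} (hM : FlatMod.IsFinLocFree M) :
    Function.Bijective (((Scheme.Modules.pullbackPushforwardAdjunction η[X].left).unit.app
      ((Scheme.Modules.pullback X.hom).obj M)).app ⊤) := by
  let e : S ⟶ X.left := η[X].left
  let f := X.hom
  haveI : IsIso (e ≫ f) := by rw [show e ≫ f = 𝟙 S from Over.w η[X]]; infer_instance
  haveI := PullPush.isIso_unit_of_isFinLocFree f (bijective_app X) M hM
  haveI := PullPush.isIso_unit_of_isFinLocFree (e ≫ f)
    (fun U => (ConcreteCategory.isIso_iff_bijective _).1 inferInstance) M hM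
  have h := unit_conjugateEquiv ((Scheme.Modules.pullbackPushforwardAdjunction f).comp (Scheme.Modules.pullbackPushforwardAdjunction e))
    (Scheme.Modules.pullbackPushforwardAdjunction (e ≫ f)) (Scheme.Modules.pullbackComp e f).inv M
  rw [Scheme.Modules.conjugateEquiv_pullbackComp_inv, Adjunction.comp_unit_app, Category.assoc] at h
  simp only [Functor.comp_obj] at h
  haveI h' : IsIso ((Scheme.Modules.pullbackPushforwardAdjunction f).unit.app M ≫
      (Scheme.Modules.pushforward f).map ((Scheme.Modules.pullbackPushforwardAdjunction e).unit.app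
        ((Scheme.Modules.pullback f).obj M)) ≫
      (Scheme.Modules.pushforwardComp e f).hom.app _) := by rw [h]; infer_instance
  haveI := @IsIso.of_isIso_comp_left _ _ _ _ _ ((Scheme.Modules.pullbackPushforwardAdjunction f).unit.app M) _ _ h'
  haveI : IsIso ((Scheme.Modules.pushforward f).map ((Scheme.Modules.pullbackPushforwardAdjunction e).unit.app
      ((Scheme.Modules.pullback f).obj M))) :=
    IsIso.of_isIso_comp_right _ ((Scheme.Modules.pushforwardComp e f).hom.app _)
  exact (ConcreteCategory.isIso_iff_bijective _).1
    (Scheme.Modules.Hom.isIso_iff_isIso_app.mp ‹IsIso ((Scheme.Modules.pushforward f).map _)› ⊤)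

end Groth.Agent.AbSchCube
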